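import Cfsg.Agent.H892.EP.Rows
import Cfsg.Agent.ClassicalGeometry.AutPSL.SylowU

/-!
# `ParU r PSL_n(F)`, `n ≥ 3`, `r` odd (helper679, task 5304a, S4929)

The diagonal matrices with entries `±1` have no nontrivial fixed point on the unitriangular group.
-/

set_option autoImplicit false
set_option linter.unusedSectionVars false

open Matrix Cfsg Cfsg.Agent.Characters.Core Cfsg.Agent.H892.EP
open Cfsg.Agent.ClassicalGeometry.AutPSL.SylowU Cfsg.Agent.ClassicalGeometry.AutPSL.Root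

namespace Cfsg.Agent.H679.EP.PuPsl

variable {F : Type} [Field F] [Fintype F] {n : ℕ}

/-- diagonal matrices with entries `±1` -/
def TT (n : ℕ) (F : Type) [Field F] : Subgroup (SpecialLinearGroup (Fin n) F) where
  carrier := {g | ∃ ε : Fin n → F, (∀ i, ε i * ε i = 1) ∧ g.1 = diagonal ε}
  one_mem' := ⟨1, fun _ => mul_one _, by
    change (1 : Matrix (Fin n) (Fin n) F) = diagonal fun _ => 1
    rw [diagonal_one]⟩
  mul_mem' := by
    rintro g h ⟨ε, hε, hg⟩ ⟨ε', hε', hh⟩
    refine ⟨fun i => ε i * ε' i, fun i => ?_, ?_⟩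
    · change ε i * ε' i * (ε i * ε' i) = 1
      rw [mul_mul_mul_comm, hε, hε', mul_one]
    · change g.1 * h.1 = _
      rw [hg, hh, diagonal_mul_diagonal]
  inv_mem' := by
    rintro g ⟨ε, hε, hg⟩
    have h1 : g⁻¹ = g := by
      rw [inv_eq_iff_mul_eq_one]
      apply Subtype.ext
      change g.1 * g.1 = 1
      rw [hg, diagonal_mul_diagonal]
      simp [hε]
    rw [h1]
    exact ⟨ε, hε, hg⟩

theorem inv_eq {g : SpecialLinearGroup (Fin n) F} {ε : Fin n → F} (hε : ∀ i, ε i * ε i = 1) (hg : g.1 = diagonal ε) :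
    g⁻¹ = g := by
  rw [inv_eq_iff_mul_eq_one]
  apply Subtype.ext
  change g.1 * g.1 = 1
  rw [hg, diagonal_mul_diagonal]
  simp [hε]

theorem conj_apply {g : SpecialLinearGroup (Fin n) F} {ε : Fin n → F} (hε : ∀ i, ε i * ε i = 1) (hg : g.1 = diagonal ε)
    (x : SpecialLinearGroup (Fin n) F) (i j : Fin n) : (g * x * g⁻¹).1 i j = ε i * x.1 i j * ε j := by
  rw [inv_eq hε hg]
  change (g.1 * x.1 * g.1) i j = _
  rw [hg, mul_diagonal, diagonal_mul]

theorem conj_mem {a : SpecialLinearGroup (Fin n) F} (ha : a ∈ TT n F) {x : SpecialLinearGroup (Fin n) F}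
    (hx : x ∈ upper n F) : a * x * a⁻¹ ∈ upper n F := by
  obtain ⟨ε, hε, hg⟩ := ha
  intro i j hij
  rw [conj_apply hε hg, hx i j hij]
  split_ifs with h
  · subst h
    rw [mul_one, hε]
  · rw [mul_zero, zero_mul]

/-- the element with entries `-1` at `i`, `k` -/
theorem exists_tt {i j : Fin n} (hn : 3 ≤ n) (hij : i ≠ j) : ∃ (g : SpecialLinearGroup (Fin n) F) (ε : Fin n → F),
    (∀ l, ε l * ε l = 1) ∧ g.1 = diagonal ε ∧ ε i * ε j = -1 := by
  obtain ⟨k, hk⟩ : ∃ k : Fin n, k ∉ ({i, j} : Finset (Fin n)) := by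
    by_contra h
    push Not at h
    have h1 : (Finset.univ : Finset (Fin n)) ⊆ {i, j} := fun x _ => h x
    have h2 := Finset.card_le_card h1
    have h3 := Finset.card_le_two (a := i) (b := j)
    rw [Finset.card_univ, Fintype.card_fin] at h2
    omega
  rw [Finset.mem_insert, Finset.mem_singleton, not_or] at hk
  obtain ⟨hki, hkj⟩ := hk
  set ε : Fin n → F := fun l => if l = i then -1 else if l = k then -1 else 1 with hε
  have hdet : (diagonal ε).det = 1 := by
    rw [det_diagonal]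
    have h1 : ∀ l, ε l = (if l = i then -1 else 1) * (if l = k then -1 else 1) := by
      intro l
      rw [hε]
      by_cases h1 : l = i
      · simp [h1, Ne.symm hki]
      · simp [h1]
    rw [Finset.prod_congr rfl fun l _ => h1 l, Finset.prod_mul_distrib]
    simp
  refine ⟨⟨diagonal ε, hdet⟩, ε, fun l => ?_, rfl, ?_⟩
  · simp only [hε]
    split_ifs <;> ring
  · simp [hε, Ne.symm hij, Ne.symm hkj]

theorem eq_one_of_fix (h2 : (2 : F) ≠ 0) (hn : 3 ≤ n) {x : SpecialLinearGroup (Fin n) F} (hx : x ∈ upper n F)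
    (h : ∀ a ∈ TT n F, a * x * a⁻¹ = x) : x = 1 := by
  apply Subtype.ext
  change x.1 = 1
  ext i j
  by_cases hij : i = j
  · subst hij
    have h1 := hx i i le_rfl
    rw [if_pos rfl] at h1
    rw [Matrix.one_apply_eq]
    exact h1
  · obtain ⟨g, ε, hε, hg, he⟩ := exists_tt (F := F) hn hij
    have h1 := congrArg (fun y : SpecialLinearGroup (Fin n) F => y.1 i j) (h g ⟨ε, hε, hg⟩)
    simp only [conj_apply hε hg] at h1
    rw [Matrix.one_apply_ne hij]
    have h3 : (2 : F) * x.1 i j = 0 := by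
      linear_combination -h1 + x.1 i j * he
    exact (mul_eq_zero.1 h3).resolve_left h2

theorem inv2_psl {r : ℕ} [Fact r.Prime] [CharP F r] (hr : r ≠ 2) (hn : 3 ≤ n) :
    Inv2 r (ProjectiveSpecialLinearGroup (Fin n) F) := by
  have h2 : (2 : F) ≠ 0 := by
    intro h
    have : ((2 : ℕ) : F) = 0 := by exact_mod_cast h
    rw [CharP.cast_eq_zero_iff F r] at this
    exact hr ((Nat.prime_dvd_prime_iff_eq Fact.out Nat.prime_two).1 this)
  obtain ⟨U, hU⟩ := exists_sylow (F := F) n r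
  refine ⟨U, (TT n F).map pr, ?_, ?_, ?_⟩
  · rintro ⟨_, a, ⟨ε, hε, hg⟩, rfl⟩
    refine ⟨1, Subtype.ext ?_⟩
    change pr a ^ 2 ^ 1 = 1
    have h1 : a * a = 1 := by
      have h3 := inv_eq hε hg
      nth_rewrite 1 [← h3]
      exact inv_mul_cancel a
    rw [pow_one, pow_two, ← map_mul, h1, map_one]
  · rintro _ ⟨a, ha, rfl⟩
    rw [hU, Subgroup.mem_normalizer_iff]
    intro y
    constructor
    · rintro ⟨x, hx, rfl⟩
      exact ⟨a * x * a⁻¹, conj_mem ha hx, by rw [map_mul, map_mul, map_inv]⟩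
    · rintro ⟨x, hx, h⟩
      refine ⟨a⁻¹ * x * a⁻¹⁻¹, conj_mem (inv_mem ha) hx, ?_⟩
      rw [inv_inv, map_mul, map_mul, map_inv, h]
      group
  · intro u hu hfix
    rw [hU] at hu
    obtain ⟨x, hx, rfl⟩ := hu
    have hx' : x ∈ upper n F := hx
    have h1 : x = 1 := by
      refine eq_one_of_fix h2 hn hx' fun a ha => ?_
      have h3 := hfix _ ⟨a, ha, rfl⟩
      refine pr_injOn_upper (conj_mem ha hx') hx' ?_
      rw [map_mul, map_mul, map_inv, h3, mul_inv_cancel_right]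
    rw [h1, map_one]

end Cfsg.Agent.H679.EP.PuPsl

namespace Cfsg.Agent.H679.EP

variable {F : Type} [Field F] [Fintype F] {r : ℕ} [Fact r.Prime] [CharP F r]

/-- **Task 5304a** of S4929. -/
theorem pu_psl (hr : r ≠ 2) {n : ℕ} (hn : 3 ≤ n) : ParU r (ProjectiveSpecialLinearGroup (Fin n) F) :=
  parU_of_inv2 hr (PuPsl.inv2_psl hr hn)

end Cfsg.Agent.H679.EP
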